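import Cfsg.Agent.S2361
import Cfsg.Agent.S2359
import Cfsg.Agent.S2358
import Cfsg.Agent.S1158
import Cfsg.Agent.S0336
import Cfsg.Agent.H563.RV.Push
import Cfsg.Agent.LieRecognition.ReeSylowThree
import Cfsg.Agent.LieRecognition.ReeFinal

/-!
# TEAM RV: the `N`-row of `²G₂(q)`, `3 ∉ π` (helper305)

A `3'`-subgroup `H` of `²G₂(q)` of order divisible by 8 is solvable, so it normalises a Sylow subgroup or one of the cyclic
subgroups of S2361; by the orders of the normalizers it normalises a nontrivial 2-subgroup.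

* `nRow_ree`.
-/

set_option autoImplicit false

namespace Cfsg.Agent.H305.RV

open Cfsg Subgroup Cfsg.Agent.H563.RV Cfsg.Agent.H165.RV Cfsg.Agent.LieRecognition

universe u

/-- a `3'`-group of order not divisible by 64 is solvable -/
theorem solvable_of_three (k : ℕ) : ∀ (G : Type u) [Group G] [Finite G], Nat.card G ≤ k → ¬ 3 ∣ Nat.card G →
    ¬ 64 ∣ Nat.card G → Group.IsSolvable G := by
  induction k with
  | zero =>
    intro G _ _ h0
    exact absurd (Nat.card_pos (α := G)) (by omega)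
  | succ k ih =>
    intro G _ _ hk h3 hd
    by_cases hs : IsSimpleGroup G
    · by_cases hc : ∃ a b : G, a * b ≠ b * a
      · obtain ⟨-, m, hm, hcard⟩ := Cfsg.Agent.S0336.result hc h3
        exfalso
        apply hd
        rw [hcard]
        refine Dvd.dvd.mul_right (Dvd.dvd.mul_right ?_ _) _
        rw [← pow_mul]
        exact pow_dvd_pow 2 (show 6 ≤ (2 * m + 1) * 2 by omega)
      · push Not at hc
        exact Group.isSolvable_of_comm hc
    · by_cases ht : Subsingleton G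
      · exact Group.isSolvable_of_comm (fun a b => Subsingleton.elim _ _)
      · have hnt : Nontrivial G := not_subsingleton_iff_nontrivial.mp ht
        have hex : ∃ N : Subgroup G, N.Normal ∧ N ≠ ⊥ ∧ N ≠ ⊤ := by
          by_contra hcon
          push Not at hcon
          exact hs ⟨fun N hN => or_iff_not_imp_left.mpr (hcon N hN)⟩
        obtain ⟨N, hN, hN1, hN2⟩ := hex
        have hci := Subgroup.card_mul_index N
        have hNpos : 1 < Nat.card N := (Subgroup.one_lt_card_iff_ne_bot N).mpr hN1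
        have hi1 : N.index ≠ 1 := fun h => hN2 (Subgroup.index_eq_one.mp h)
        have hipos : N.index ≠ 0 := Subgroup.index_ne_zero_of_finite
        have hlt1 : Nat.card N < Nat.card G := by
          have : 2 ≤ N.index := by omega
          nlinarith
        have hlt2 : Nat.card (G ⧸ N) < Nat.card G := by
          change N.index < _
          have : 1 ≤ N.index := by omega
          nlinarith
        have hs1 : Group.IsSolvable N := ih N (by omega) (fun h => h3 (h.trans (Subgroup.card_subgroup_dvd_card N)))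
          (fun h => hd (h.trans (Subgroup.card_subgroup_dvd_card N)))
        have hdq : Nat.card (G ⧸ N) ∣ Nat.card G := Subgroup.index_dvd_card N
        have hs2 : Group.IsSolvable (G ⧸ N) := ih (G ⧸ N) (by omega) (fun h => h3 (h.trans hdq)) (fun h => hd (h.trans hdq))
        exact Group.isSolvable_of_ker_le_range N.subtype (QuotientGroup.mk' N) (by simp)

/-- a nontrivial 2-subgroup normalised by `H ≥ P` -/
theorem hasTwo_of_norm {S : Type*} [Group S] [Finite S] {H N : Subgroup S} (P : Sylow 2 S) (hP : (P : Subgroup S) ≤ H)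
    (hN : IsPGroup 2 N) (h0 : N ≠ ⊥) (hn : H ≤ normalizer (N : Set S)) : HasTwo H := by
  have hsup : IsPGroup 2 (((P : Subgroup S) ⊔ N : Subgroup S)) :=
    P.isPGroup'.to_sup_of_normal_right' hN (fun g hg => hn (hP hg))
  have hNP : N ≤ P := le_sup_right.trans (le_of_eq (P.is_maximal' hsup le_sup_left))
  exact ⟨N, h0, hNP.trans hP, hN, fun h hh n hn' => (mem_normalizer_iff.1 (hn hh) n).1 hn'⟩

theorem card_normalizer_map {G : Type*} [Group G] (A : Subgroup G) (g : G) :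
    Nat.card (normalizer ((A.map (MulAut.conj g).toMonoidHom : Subgroup G) : Set G)) =
      Nat.card (normalizer (A : Set G)) := by
  have h1 : normalizer ((A.map (MulAut.conj g).toMonoidHom : Subgroup G) : Set G) =
      (normalizer (A : Set G)).map (MulAut.conj g).toMonoidHom := by
    ext x
    have hm : ∀ y : G, y ∈ A.map (MulAut.conj g).toMonoidHom ↔ g⁻¹ * y * g ∈ A := by
      intro y
      constructor
      · rintro ⟨a, ha, rfl⟩
        have : g⁻¹ * ((MulAut.conj g).toMonoidHom a) * g = a := by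
          show g⁻¹ * (g * a * g⁻¹) * g = a
          group
        rwa [this]
      · intro hy
        refine ⟨_, hy, ?_⟩
        show g * (g⁻¹ * y * g) * g⁻¹ = y
        group
    rw [mem_normalizer_iff]
    constructor
    · intro hx
      refine ⟨g⁻¹ * x * g, ?_, by show g * (g⁻¹ * x * g) * g⁻¹ = x; group⟩
      rw [SetLike.mem_coe, mem_normalizer_iff]
      intro a
      have h2 := hx (g * a * g⁻¹)
      rw [hm, hm] at h2
      have e1 : g⁻¹ * (g * a * g⁻¹) * g = a := by group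
      have e2 : g⁻¹ * (x * (g * a * g⁻¹) * x⁻¹) * g = g⁻¹ * x * g * a * (g⁻¹ * x * g)⁻¹ := by group
      rw [e1, e2] at h2
      exact h2
    · rintro ⟨y, hy, rfl⟩ a
      rw [SetLike.mem_coe, mem_normalizer_iff] at hy
      rw [hm, hm]
      have h2 := hy (g⁻¹ * a * g)
      have e2 : g⁻¹ * ((MulAut.conj g).toMonoidHom y * a * ((MulAut.conj g).toMonoidHom y)⁻¹) * g =
          y * (g⁻¹ * a * g) * y⁻¹ := by
        show g⁻¹ * ((g * y * g⁻¹) * a * (g * y * g⁻¹)⁻¹) * g = _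
        group
      rw [e2]
      exact h2
  rw [h1]
  exact Nat.card_congr ((normalizer (A : Set G)).equivMapOfInjective (MulAut.conj g).toMonoidHom
    (MulAut.conj g).injective).toEquiv.symm

section borel

variable {K : Type*} [Field K] {G : Type*} [Group G] {m : ℕ} {U : K → K → K → G} {h : Kˣ → G} {n : G}

/-- the normalizer of the Sylow 3-subgroup `uSub` -/
theorem card_normalizer_uSub [Fintype K] (D : ReeAbs.Data m U h n) :
    Nat.card (normalizer (ReeSylowThree.uSub D : Set G)) = Fintype.card K ^ 3 * (Fintype.card K - 1) := by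
  have hmem : ∀ g : G, g ∈ normalizer (ReeSylowThree.uSub D : Set G) ↔ ∃ t u v a, g = U t u v * h a := by
    intro g
    constructor
    · intro hg
      rcases D.bruhat g with h1 | ⟨t, u, v, a, t', u', v', rfl⟩
      · exact h1
      · exfalso
        have hy : U 0 0 1 ∈ ReeSylowThree.uSub D := ⟨_, _, _, rfl⟩
        have hx := (mem_normalizer_iff.1 hg (U 0 0 1)).1 hy
        have hx : U t u v * h a * n * U t' u' v' * U 0 0 1 * (U t u v * h a * n * U t' u' v')⁻¹ ∈
          ReeSylowThree.uSub D := hx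
        obtain ⟨s₁, s₂, s₃, hs⟩ := (ReeSylowThree.uSub D).mul_mem hx ⟨t, u, v, rfl⟩
        obtain ⟨r₁, r₂, r₃, hr⟩ := (ReeSylowThree.uSub D).mul_mem ⟨t', u', v', rfl⟩ hy
        have h1 : U s₁ s₂ s₃ * h a * n * U t' u' v' = U t u v * h a * n * U r₁ r₂ r₃ := by
          rw [← hs, ← hr]
          group
        obtain ⟨-, -, -, -, e1, e2, e3⟩ := D.inj₂ _ _ _ _ _ _ _ _ _ _ _ _ _ _ h1
        rw [← e1, ← e2, ← e3] at hr
        have h2 : U 0 0 1 = 1 := mul_eq_left.1 hr
        rw [← D.U_zero] at h2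
        exact one_ne_zero (ReeSylowThree.U_injective D h2).2.2
    · rintro ⟨t, u, v, a, rfl⟩
      rw [mem_normalizer_iff]
      intro z
      have e1 : ∀ z, z ∈ ReeSylowThree.uSub D → U t u v * h a * z * (U t u v * h a)⁻¹ ∈ ReeSylowThree.uSub D := by
        intro z hz
        have h1 : U t u v * h a * z * (U t u v * h a)⁻¹ = U t u v * (h a * z * (h a)⁻¹) * (U t u v)⁻¹ := by group
        rw [h1]
        exact (ReeSylowThree.uSub D).mul_mem ((ReeSylowThree.uSub D).mul_mem ⟨_, _, _, rfl⟩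
          (ReeSylowThree.h_conj_mem D a hz)) ((ReeSylowThree.uSub D).inv_mem ⟨_, _, _, rfl⟩)
      refine ⟨e1 z, fun hz => ?_⟩
      have h2 : (U t u v)⁻¹ * (U t u v * h a * z * (U t u v * h a)⁻¹) * U t u v ∈ ReeSylowThree.uSub D :=
        (ReeSylowThree.uSub D).mul_mem ((ReeSylowThree.uSub D).mul_mem ((ReeSylowThree.uSub D).inv_mem ⟨_, _, _, rfl⟩)
          hz) ⟨_, _, _, rfl⟩
      have h3 := ReeSylowThree.h_conj_mem D a⁻¹ h2
      rw [D.h_inv] at h3
      have h4 : (h a)⁻¹ * ((U t u v)⁻¹ * (U t u v * h a * z * (U t u v * h a)⁻¹) * U t u v) * ((h a)⁻¹)⁻¹ = z := by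
        group
      rwa [h4] at h3
  let f : K × K × K × Kˣ → normalizer (ReeSylowThree.uSub D : Set G) := fun x =>
    ⟨U x.1 x.2.1 x.2.2.1 * h x.2.2.2, (hmem _).2 ⟨_, _, _, _, rfl⟩⟩
  have hf : Function.Bijective f := by
    constructor
    · rintro ⟨t, u, v, a⟩ ⟨t', u', v', a'⟩ he
      obtain ⟨rfl, rfl, rfl, rfl⟩ := D.inj₁ _ _ _ _ _ _ _ _ (congrArg Subtype.val he)
      rfl
    · rintro ⟨g, hg⟩
      obtain ⟨t, u, v, a, rfl⟩ := (hmem _).1 hg
      exact ⟨(t, u, v, a), rfl⟩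
  rw [← Nat.card_congr (Equiv.ofBijective f hf)]
  simp only [Nat.card_prod, Nat.card_units, Nat.card_eq_fintype_card]
  ring

end borel

section

variable {K : Type*} [Field K] [Fintype K] {m : ℕ}

theorem q_eq (m : ℕ) : ∃ k, 3 ^ (2 * m + 1) = 8 * k + 3 := by
  have h1 := ReeAbs.three_pow_odd_mod m
  exact ⟨3 ^ (2 * m + 1) / 8, by omega⟩

theorem card_eq (hK : Fintype.card K = 3 ^ (2 * m + 1)) :
    ∃ c, Odd c ∧ Nat.card ↥(Cfsg.Lie.twistedG2 K (3 ^ m)) = 8 * c := by
  obtain ⟨k, hk⟩ := q_eq m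
  rw [ReeSylowThree.card_eq (ReeFinal.data hK), hK, hk]
  refine ⟨(8 * k + 3) ^ 3 * (4 * k + 1) * (128 * k ^ 3 + 144 * k ^ 2 + 54 * k + 7), ?_, ?_⟩
  · refine Odd.mul (Odd.mul (Odd.pow ⟨4 * k + 1, by ring⟩) ⟨2 * k, by ring⟩) ⟨64 * k ^ 3 + 72 * k ^ 2 + 27 * k + 3, by ring⟩
  · rw [show 8 * k + 3 - 1 = 8 * k + 2 by omega]
    ring

theorem not_eight_of {a : ℕ} (h : ∃ c, Odd c ∧ (a = 2 * c ∨ a = 4 * c)) {b : ℕ} (hb : b ∣ a) (h8 : 8 ∣ b) : False := by
  obtain ⟨c, ⟨d, rfl⟩, h1⟩ := h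
  have h2 : 8 ∣ a := h8.trans hb
  rcases h1 with h1 | h1 <;> omega

/-- **a `3'`-subgroup of order divisible by 8 has a nontrivial normal 2-subgroup** -/
theorem hasTwo_ree (hm : 1 ≤ m) (hK : Fintype.card K = 3 ^ (2 * m + 1))
    (H : Subgroup ↥(Cfsg.Lie.twistedG2 K (3 ^ m))) (h3 : ¬ 3 ∣ Nat.card H) (h8 : 8 ∣ Nat.card H) : HasTwo H := by
  obtain ⟨k, hk⟩ := q_eq m
  have hD := ReeFinal.data (m := m) hK
  have hfin : Finite ↥(Cfsg.Lie.twistedG2 K (3 ^ m)) := ReeSylowThree.finite hD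
  obtain ⟨c, hc, hcard⟩ := card_eq (K := K) (m := m) hK
  have hp2 : Fact (Nat.Prime 2) := ⟨Nat.prime_two⟩
  have hp3 : Fact (Nat.Prime 3) := ⟨Nat.prime_three⟩
  have hfac : (Nat.card ↥(Cfsg.Lie.twistedG2 K (3 ^ m))).factorization 2 = 3 := by
    have hc0 : c ≠ 0 := by rintro rfl; exact absurd hc (by decide)
    rw [hcard, show 8 = 2 ^ 3 by norm_num, Nat.factorization_mul (by norm_num) hc0, Finsupp.add_apply,
      Nat.factorization_eq_zero_of_not_dvd (fun h => by obtain ⟨d, rfl⟩ := hc; omega : ¬ 2 ∣ c),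
      Nat.Prime.factorization_pow Nat.prime_two, Finsupp.single_apply, if_pos rfl]
  have hHc : Nat.card H ∣ 8 * c := hcard ▸ card_subgroup_dvd_card H
  have hsol : Group.IsSolvable H := solvable_of_three _ H le_rfl h3 (fun h => by
    have h1 : 64 ∣ 8 * c := h.trans hHc
    obtain ⟨d, rfl⟩ := hc
    omega)
  -- a Sylow subgroup inside `H`
  obtain ⟨P, hP⟩ : ∃ P : Sylow 2 ↥(Cfsg.Lie.twistedG2 K (3 ^ m)), (P : Subgroup _) ≤ H := by
    obtain ⟨Q, hQ⟩ := Sylow.exists_subgroup_card_pow_prime (G := H) 2 (n := 3) (by norm_num; exact h8)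
    refine ⟨Sylow.ofCard (Q.map H.subtype) ?_, map_subtype_le Q⟩
    rw [card_map_of_injective H.subtype_injective, hQ, hfac]
  obtain ⟨A, hHA, hA⟩ := S2361.result hm hK H hsol
  have hdvd : Nat.card H ∣ Nat.card (normalizer (A : Set ↥(Cfsg.Lie.twistedG2 K (3 ^ m)))) := card_dvd_of_le hHA
  have hr : 3 ^ (m + 1) ≤ 3 ^ (2 * m + 1) := Nat.pow_le_pow_right (by norm_num) (by omega)
  have hro : Odd (3 ^ (m + 1)) := Odd.pow (by decide)
  -- the normalizers of the cyclic subgroups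
  have hcyc : ∀ d N : ℕ, (d ∣ (3 ^ (2 * m + 1) - 1) / 2 ∨ d ∣ (3 ^ (2 * m + 1) + 1) / 4 ∨
      d ∣ 3 ^ (2 * m + 1) - 3 ^ (m + 1) + 1 ∨ d ∣ 3 ^ (2 * m + 1) + 3 ^ (m + 1) + 1) →
      (∃ B : Subgroup ↥(Cfsg.Lie.twistedG2 K (3 ^ m)), IsCyclic B ∧ Nat.card B = d ∧
        Nat.card (normalizer (B : Set ↥(Cfsg.Lie.twistedG2 K (3 ^ m)))) = N) → IsCyclic A → Nat.card A = d →
      Nat.card (normalizer (A : Set ↥(Cfsg.Lie.twistedG2 K (3 ^ m)))) = N := by
    rintro d N hd ⟨B, hB1, hB2, hB3⟩ h1 h2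
    obtain ⟨g, hg⟩ := S2358.result hm hK d hd B A hB1 h1 hB2 h2
    rw [hg, card_normalizer_map, hB3]
  have h1158 := S1158.result (K := K) hm hK
  rcases hA with ⟨Q, rfl⟩ | ⟨Q, rfl⟩ | ⟨hAc, hA | hA | hA | hA⟩
  · refine hasTwo_of_norm P hP Q.isPGroup' (fun h0 => ?_) hHA
    have h1 : Nat.card ↥(Q : Subgroup ↥(Cfsg.Lie.twistedG2 K (3 ^ m))) =
        2 ^ (Nat.card ↥(Cfsg.Lie.twistedG2 K (3 ^ m))).factorization 2 := Q.card_eq_multiplicity
    rw [hfac, h0, card_bot] at h1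
    norm_num at h1
  · exfalso
    have hfac3 : (Nat.card ↥(Cfsg.Lie.twistedG2 K (3 ^ m))).factorization 3 = 3 * (2 * m + 1) := by
      rw [ReeSylowThree.card_eq hD, hK]
      set q := 3 ^ (2 * m + 1) with hq
      have hq3 : 3 ∣ q := dvd_pow_self 3 (by omega)
      have hq0 : 0 < q := by positivity
      have h1 : ¬ 3 ∣ (q - 1) * (q ^ 3 + 1) := by
        rw [Nat.prime_three.dvd_mul]
        have h3 : 3 ∣ q ^ 3 := dvd_pow hq3 (by norm_num)
        rintro (h | h) <;> omega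
      rw [mul_assoc, Nat.factorization_mul (by positivity) (by intro h0; rw [h0] at h1; exact h1 (dvd_zero 3)),
        Finsupp.add_apply, Nat.factorization_eq_zero_of_not_dvd h1, hq, ← pow_mul,
        Nat.Prime.factorization_pow Nat.prime_three, Finsupp.single_apply, if_pos rfl, add_zero, mul_comm]
    let S : Sylow 3 ↥(Cfsg.Lie.twistedG2 K (3 ^ m)) := Sylow.ofCard (ReeSylowThree.uSub hD) (by
      rw [ReeSylowThree.card_uSub, hK, hfac3, ← pow_mul, mul_comm])
    obtain ⟨g, hg⟩ := MulAction.exists_smul_eq ↥(Cfsg.Lie.twistedG2 K (3 ^ m)) S Q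
    have h1 : (Q : Subgroup ↥(Cfsg.Lie.twistedG2 K (3 ^ m))) = (ReeSylowThree.uSub hD).map (MulAut.conj g).toMonoidHom := by
      rw [← hg]
      rfl
    rw [h1, card_normalizer_map, card_normalizer_uSub hD, hK, hk] at hdvd
    have h2 := h8.trans hdvd
    have h3 : Nat.Coprime 8 ((8 * k + 3) ^ 3) := by
      refine Nat.Coprime.pow_right 3 ?_
      rw [show 8 * k + 3 = 3 + 8 * k by ring, Nat.coprime_add_mul_left_right]
      norm_num
    have h4 := h3.dvd_of_dvd_mul_left h2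
    omega
  · exfalso
    obtain ⟨B, hB1, hB2, hB3, -⟩ := h1158 ((3 ^ (2 * m + 1) - 1) / 2, 2 * (3 ^ (2 * m + 1) - 1)) (by simp)
    have h1 := hcyc _ _ (Or.inl dvd_rfl) ⟨B, hB1, hB2, hB3⟩ hAc hA
    rw [h1] at hdvd
    refine not_eight_of ⟨4 * k + 1, ⟨2 * k, by ring⟩, Or.inr ?_⟩ hdvd h8
    show 2 * (3 ^ (2 * m + 1) - 1) = _
    omega
  · -- the cyclic subgroup of order `(q + 1) / 4`
    obtain ⟨h1, h2, -, -⟩ := (S2359.result hm hK A hAc).2 hA
    let E : Subgroup ↥(Cfsg.Lie.twistedG2 K (3 ^ m)) :=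
      { carrier := {x | x ∈ centralizer (A : Set ↥(Cfsg.Lie.twistedG2 K (3 ^ m))) ∧ x * x = 1}
        mul_mem' := by
          rintro a b ⟨ha, ha2⟩ ⟨hb, hb2⟩
          refine ⟨mul_mem ha hb, ?_⟩
          have hab : a * b = b * a := congrArg Subtype.val (h1.is_comm.comm ⟨a, ha⟩ ⟨b, hb⟩)
          calc a * b * (a * b) = a * (b * a) * b := by group
            _ = a * (a * b) * b := by rw [hab]
            _ = (a * a) * (b * b) := by group
            _ = 1 := by rw [ha2, hb2, one_mul]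
        one_mem' := ⟨one_mem _, one_mul 1⟩
        inv_mem' := by
          rintro a ⟨ha, ha2⟩
          refine ⟨inv_mem ha, ?_⟩
          rw [← mul_inv_rev, ha2, inv_one] }
    have hEp : IsPGroup 2 E := by
      rintro ⟨x, hx⟩
      refine ⟨1, Subtype.ext ?_⟩
      show x ^ 2 ^ 1 = 1
      rw [pow_one, pow_two]
      exact hx.2
    refine hasTwo_of_norm P hP hEp (fun h0 => ?_) ?_
    · obtain ⟨x, hx⟩ := exists_prime_orderOf_dvd_card' (G := ↥(centralizer (A : Set ↥(Cfsg.Lie.twistedG2 K (3 ^ m))))) 2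
        (by rw [h2]; omega)
      have h3 : (x : ↥(Cfsg.Lie.twistedG2 K (3 ^ m))) ∈ E := by
        refine ⟨x.2, ?_⟩
        have h4 : x ^ 2 = 1 := by rw [← hx]; exact pow_orderOf_eq_one x
        rw [← pow_two]
        exact congrArg Subtype.val h4
      rw [h0, mem_bot] at h3
      have h4 : x = 1 := Subtype.ext h3
      rw [h4, orderOf_one] at hx
      omega
    · intro g hg
      have hgA := hHA hg
      have key : ∀ y ∈ normalizer (A : Set ↥(Cfsg.Lie.twistedG2 K (3 ^ m))), ∀ x ∈ E, y * x * y⁻¹ ∈ E := by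
        rintro y hy x ⟨hx, hx2⟩
        refine ⟨?_, ?_⟩
        · rw [mem_centralizer_iff]
          intro a ha
          have h5 : y⁻¹ * a * y ∈ A := by
            have := (mem_normalizer_iff.1 (inv_mem hy) a).1 ha
            rwa [inv_inv] at this
          have h6 := mem_centralizer_iff.1 hx _ h5
          calc a * (y * x * y⁻¹) = y * ((y⁻¹ * a * y) * x) * y⁻¹ := by group
            _ = y * (x * (y⁻¹ * a * y)) * y⁻¹ := by rw [h6]
            _ = (y * x * y⁻¹) * a := by group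
        · calc y * x * y⁻¹ * (y * x * y⁻¹) = y * (x * x) * y⁻¹ := by group
            _ = 1 := by rw [hx2]; group
      rw [mem_normalizer_iff]
      intro x
      refine ⟨key g hgA x, fun hx => ?_⟩
      have h7 := key g⁻¹ (inv_mem hgA) _ hx
      have h8 : g⁻¹ * (g * x * g⁻¹) * g⁻¹⁻¹ = x := by group
      rwa [h8] at h7
  · exfalso
    obtain ⟨B, hB1, hB2, hB3, -⟩ := h1158 (3 ^ (2 * m + 1) - 3 ^ (m + 1) + 1, 6 * (3 ^ (2 * m + 1) - 3 ^ (m + 1) + 1))
      (by simp)
    have h1 := hcyc _ _ (Or.inr (Or.inr (Or.inl dvd_rfl))) ⟨B, hB1, hB2, hB3⟩ hAc hA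
    rw [h1] at hdvd
    obtain ⟨d, hd⟩ := hro
    refine not_eight_of ⟨3 * (3 ^ (2 * m + 1) - 3 ^ (m + 1) + 1), ?_, Or.inl ?_⟩ hdvd h8
    · rw [Nat.odd_iff]; omega
    · show 6 * (3 ^ (2 * m + 1) - 3 ^ (m + 1) + 1) = _
      ring
  · exfalso
    obtain ⟨B, hB1, hB2, hB3, -⟩ := h1158 (3 ^ (2 * m + 1) + 3 ^ (m + 1) + 1, 6 * (3 ^ (2 * m + 1) + 3 ^ (m + 1) + 1))
      (by simp)
    have h1 := hcyc _ _ (Or.inr (Or.inr (Or.inr dvd_rfl))) ⟨B, hB1, hB2, hB3⟩ hAc hA
    rw [h1] at hdvd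
    obtain ⟨d, hd⟩ := hro
    refine not_eight_of ⟨3 * (3 ^ (2 * m + 1) + 3 ^ (m + 1) + 1), ?_, Or.inl ?_⟩ hdvd h8
    · rw [Nat.odd_iff]; omega
    · show 6 * (3 ^ (2 * m + 1) + 3 ^ (m + 1) + 1) = _
      ring

end

theorem hasTwo_of_map {S T : Type*} [Group S] [Group T] (e : S ≃* T) {H : Subgroup S}
    (h : HasTwo (H.map (e : S ≃* T).toMonoidHom)) : HasTwo H := by
  obtain ⟨N, h0, hle, hp, hn⟩ := h
  have hmem : ∀ x : S, e x ∈ H.map (e : S ≃* T).toMonoidHom ↔ x ∈ H := by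
    intro x
    constructor
    · rintro ⟨y, hy, hxy⟩
      rwa [← e.injective hxy]
    · exact fun hx => ⟨x, hx, rfl⟩
  refine ⟨N.comap (e : S ≃* T).toMonoidHom, fun h1 => h0 ?_, fun x hx => (hmem x).1 (hle hx), ?_, ?_⟩
  · rw [eq_bot_iff]
    intro y hy
    obtain ⟨x, rfl⟩ := e.surjective y
    have h2 : x ∈ N.comap (e : S ≃* T).toMonoidHom := hy
    rw [h1, mem_bot] at h2
    rw [h2, map_one, mem_bot]
  · exact hp.comap_of_injective _ e.injective
  · intro g hg x hx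
    have h2 := hn (e g) ((hmem g).2 hg) (e x) hx
    show e (g * x * g⁻¹) ∈ N
    rwa [map_mul, map_mul, map_inv]

/-- **the `N`-row of `²G₂(q)`, `3 ∉ π`** -/
theorem nRow_ree {π : Set ℕ} {S : Type u} [Group S] [Finite S] (h : Lie.IsoRee S) (h2 : 2 ∈ π) (h3 : 3 ∉ π) :
    NRow π S := by
  obtain ⟨K, i1, i2, m, hm, hK, ⟨e⟩⟩ := h
  intro H hH
  apply HasTwo.nAt
  apply hasTwo_of_map e
  have hcH : Nat.card ↥(H.map (e : S ≃* _).toMonoidHom) = Nat.card H := card_map_of_injective e.injective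
  refine hasTwo_ree hm hK _ (fun hd => h3 (hH.1 3 Nat.prime_three (hcH ▸ hd))) ?_
  rw [hcH]
  obtain ⟨c, hc, hcard⟩ := card_eq (K := K) (m := m) hK
  have h4 := H.card_mul_index
  rw [Nat.card_congr e.toEquiv, hcard] at h4
  have h5 := hH.2 2 Nat.prime_two h2
  have h6 : Nat.Coprime 8 H.index := by
    rw [show 8 = 2 ^ 3 by norm_num]
    exact Nat.Coprime.pow_left 3 ((Nat.Prime.coprime_iff_not_dvd Nat.prime_two).2 h5)
  exact h6.dvd_of_dvd_mul_right (Dvd.intro _ h4.symm)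

end Cfsg.Agent.H305.RV
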